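import Groth.Agent.VBCurve.K553.SubDefs2
import Groth.Agent.AbSch.K448.SmoothConn
import Groth.Agent.Picfga.CurveRelDim
import Groth.Agent.VarietyB.DimSch
import Groth.Agent.UnramA.SmoothFibreDim
import Mathlib.AlgebraicGeometry.AlgClosed.Basic
import Mathlib.AlgebraicGeometry.Geometrically.Integral

/-!
# The powers of a smooth proper curve over an algebraically closed field

For `C` integral, smooth and proper over an algebraically closed field: the powers `Pw C n` are integral, smooth and
proper, of dimension `n`; closed points of a scheme locally of finite type are sections; the universal property of the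
powers.
-/

set_option autoImplicit false
universe u
open CategoryTheory CategoryTheory.Limits AlgebraicGeometry

namespace K226.Pow

open K553.Sub

section gen

variable {S : Scheme.{u}} (C : Over S)

theorem TX_hom (T : Over S) : (TX C T).hom = pullback.fst T.hom C.hom ≫ T.hom := rfl

theorem smooth_proper [IsProper C.hom] [Smooth C.hom] (n : ℕ) :
    Smooth (Pw C n).hom ∧ IsProper (Pw C n).hom := by
  induction n with
  | zero => exact ⟨inferInstanceAs (Smooth (𝟙 S)), inferInstanceAs (IsProper (𝟙 S))⟩
  | succ n ih =>
    obtain ⟨h1, h2⟩ := ih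
    exact ⟨inferInstanceAs (Smooth (pullback.fst (Pw C n).hom C.hom ≫ (Pw C n).hom)),
      inferInstanceAs (IsProper (pullback.fst (Pw C n).hom C.hom ≫ (Pw C n).hom))⟩

theorem relDim [h : SmoothOfRelativeDimension 1 C.hom] (n : ℕ) :
    SmoothOfRelativeDimension n (Pw C n).hom := by
  induction n with
  | zero => exact inferInstanceAs (SmoothOfRelativeDimension 0 (𝟙 S))
  | succ n ih =>
    have hst : MorphismProperty.IsStableUnderBaseChange (@SmoothOfRelativeDimension 1) :=
      smoothOfRelativeDimension_isStableUnderBaseChange 1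
    have h1 : SmoothOfRelativeDimension 1 (pullback.fst (Pw C n).hom C.hom) :=
      MorphismProperty.pullback_fst (P := @SmoothOfRelativeDimension 1) _ _ h
    have h2 : SmoothOfRelativeDimension (1 + n) (pullback.fst (Pw C n).hom C.hom ≫ (Pw C n).hom) := inferInstance
    rw [Nat.add_comm] at h2
    exact h2

theorem crd_last (n : ℕ) : (crd C (n + 1) (Fin.last n) : TX C (Pw C n) ⟶ C) = qr C (Pw C n) :=
  Fin.snoc_last (α := fun _ => TX C (Pw C n) ⟶ C) (qr C (Pw C n)) (fun i => pr C (Pw C n) ≫ crd C n i)

theorem crd_castSucc (n : ℕ) (i : Fin n) :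
    (crd C (n + 1) i.castSucc : TX C (Pw C n) ⟶ C) = pr C (Pw C n) ≫ crd C n i :=
  Fin.snoc_castSucc (α := fun _ => TX C (Pw C n) ⟶ C) (qr C (Pw C n)) (fun i => pr C (Pw C n) ≫ crd C n i) i

theorem tup_crd {T : Over S} (n : ℕ) (x : Fin n → (T ⟶ C)) (i : Fin n) : tup n x ≫ crd C n i = x i := by
  induction n with
  | zero => exact i.elim0
  | succ n ih =>
    induction i using Fin.lastCases with
    | last =>
      have h1 : lft (tup n fun i => x i.castSucc) (x (Fin.last n)) ≫
          (crd C (n + 1) (Fin.last n) : TX C (Pw C n) ⟶ C) = x (Fin.last n) := by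
        rw [crd_last, lft_qr]
      exact h1
    | cast i =>
      have h1 : lft (tup n fun i => x i.castSucc) (x (Fin.last n)) ≫
          (crd C (n + 1) i.castSucc : TX C (Pw C n) ⟶ C) = x i.castSucc := by
        rw [crd_castSucc, lft_pr_assoc]
        exact ih (fun i => x i.castSucc) i
      exact h1

theorem hom_ext {T : Over S} (n : ℕ) {f g : T ⟶ Pw C n} (h : ∀ i, f ≫ crd C n i = g ≫ crd C n i) : f = g := by
  induction n with
  | zero =>
    ext1
    have h1 : f.left ≫ 𝟙 S = T.hom := Over.w f
    have h2 : g.left ≫ 𝟙 S = T.hom := Over.w g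
    exact (Category.comp_id _).symm.trans ((h1.trans h2.symm).trans (Category.comp_id _))
  | succ n ih =>
    have key : ∀ {f g : T ⟶ TX C (Pw C n)}
        (_ : ∀ i, f ≫ (crd C (n + 1) i : TX C (Pw C n) ⟶ C) = g ≫ (crd C (n + 1) i : TX C (Pw C n) ⟶ C)),
        f = g := by
      intro f g h
      refine TX_hom_ext (ih fun i => ?_) ?_
      · have h1 := h i.castSucc
        rw [crd_castSucc] at h1
        simpa only [Category.assoc] using h1
      · have h1 := h (Fin.last n)
        rwa [crd_last] at h1
    exact key h

end gen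

section field

variable {k : Type u} [Field k] [IsAlgClosed k] (C : Over (Spec (CommRingCat.of k)))

theorem geometricallyIntegral [IsIntegral C.left] [IsProper C.hom] [Smooth C.hom] :
    GeometricallyIntegral C.hom := by
  have := K448.SmoothConn.geometricallyReduced C.hom
  have hc : CompactSpace C.left := (quasiCompact_iff_compactSpace C.hom).mp inferInstance
  obtain ⟨z, -, hz⟩ := (isClosed_univ (X := C.left)).exists_closed_singleton Set.univ_nonempty
  let σ := pointOfClosedPoint C.hom z hz
  have hσ : σ ≫ C.hom = 𝟙 _ := pointOfClosedPoint_comp _ _ _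
  have hconn : ConnectedSpace (Spec (CommRingCat.of k)) := inferInstance
  have := K448.SmoothConn.geometricallyConnected_of_section C.hom σ hσ
  exact K448.SmoothConn.geometricallyIntegral C.hom

theorem isIntegral_Pw [IsIntegral C.left] [IsProper C.hom] [Smooth C.hom] (n : ℕ) : IsIntegral (Pw C n).left := by
  have h0 := geometricallyIntegral C
  induction n with
  | zero => exact inferInstanceAs (IsIntegral (Spec (CommRingCat.of k)))
  | succ n ih =>
    obtain ⟨h1, h2⟩ := smooth_proper C n
    have h3 : IsLocallyNoetherian (Pw C n).left := LocallyOfFiniteType.isLocallyNoetherian (Pw C n).hom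
    exact inferInstanceAs (IsIntegral (pullback (Pw C n).hom C.hom))

omit [IsAlgClosed k] in
/-- Topological dimension of an irreducible smooth scheme over a field. -/
theorem topologicalKrullDim_eq {X : Scheme.{u}} (f : X ⟶ Spec (CommRingCat.of k)) (n : ℕ)
    [SmoothOfRelativeDimension n f] [IrreducibleSpace X] : topologicalKrullDim X = n := by
  have hsm : Smooth f := SmoothOfRelativeDimension.smooth n f
  let : X.Over (Spec (CommRingCat.of k)) := ⟨f⟩
  have : LocallyOfFiniteType (X ↘ (Spec (CommRingCat.of k))) := inferInstanceAs (LocallyOfFiniteType f)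
  rw [Groth.Agent.VarietyB.DimSch.topologicalKrullDim_eq_trd k,
    ← Groth.Agent.VarietyB.DimSch.localDim_eq_of_irreducible k (X := X) (Classical.arbitrary X)]
  exact Groth.Agent.UnramA.SmoothFibreDim.localDim_eq n f _

end field

end K226.Pow

namespace K553.Sub

variable {k : Type u} [Field k] [IsAlgClosed k] (C : Over (Spec (CommRingCat.of k)))
  [IsIntegral C.left] [IsProper C.hom] [Smooth C.hom] (hdim : topologicalKrullDim C.left = 1)

include hdim in
theorem isIntegral_Pw (n : ℕ) : IsIntegral (Pw C n).left := by
  have := hdim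
  exact K226.Pow.isIntegral_Pw C n

theorem smooth_Pw (n : ℕ) : Smooth (Pw C n).hom ∧ IsProper (Pw C n).hom :=
  K226.Pow.smooth_proper C n

include hdim in
theorem dim_Pw (n : ℕ) : topologicalKrullDim (Pw C n).left = n := by
  have h0 : SmoothOfRelativeDimension 1 C.hom :=
    Groth.Agent.Picfga.CurveRelDim.smoothOfRelativeDimension_of_topologicalKrullDim_eq k C.left C.hom 1
      (hdim.trans Nat.cast_one.symm)
  have h1 := K226.Pow.relDim C n
  have h2 := K226.Pow.isIntegral_Pw C n
  exact K226.Pow.topologicalKrullDim_eq (Pw C n).hom n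

/-- closed points of a scheme of finite type over an algebraically closed field -/
theorem exists_pt {T : Over (Spec (CommRingCat.of k))} [LocallyOfFiniteType T.hom] (t : T.left) (ht : IsClosed ({t} : Set T.left)) :
    ∃! x : pt (Spec (CommRingCat.of k)) ⟶ T, atp x = t := by
  refine ⟨Over.homMk (pointOfClosedPoint T.hom t ht) (pointOfClosedPoint_comp _ _ _), ?_, ?_⟩
  · exact pointOfClosedPoint_apply T.hom t ht _
  · intro y hy
    ext1
    refine ext_of_apply_closedPoint_eq T.hom (Over.w y) (pointOfClosedPoint_comp _ _ _) ?_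
    exact hy.trans (pointOfClosedPoint_apply T.hom t ht _).symm

theorem isClosed_atp {T : Over (Spec (CommRingCat.of k))} [LocallyOfFiniteType T.hom]
    (x : pt (Spec (CommRingCat.of k)) ⟶ T) : IsClosed ({atp x} : Set T.left) :=
  (pointEquivClosedPoint T.hom ⟨x.left, Over.w x⟩).2

/-- the universal property -/
theorem tup_crd {T : Over (Spec (CommRingCat.of k))} (n : ℕ) (x : Fin n → (T ⟶ C)) (i : Fin n) :
    tup n x ≫ crd C n i = x i :=
  K226.Pow.tup_crd C n x i

theorem Pw_hom_ext {T : Over (Spec (CommRingCat.of k))} (n : ℕ) {f g : T ⟶ Pw C n}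
    (h : ∀ i, f ≫ crd C n i = g ≫ crd C n i) : f = g :=
  K226.Pow.hom_ext C n h

end K553.Sub
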